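import Mathlib.Topology.Sheaves.Functors
import Mathlib.Topology.Sheaves.Skyscraper
import Mathlib.Topology.Sheaves.SheafOfFunctions
import Mathlib.Topology.Sheaves.Stalks
import Mathlib.CategoryTheory.Sites.DenseSubsite.SheafEquiv
import Mathlib.CategoryTheory.Sites.Equivalence
import Mathlib.Algebra.Category.Grp.Colimits
import Mathlib.Algebra.Category.Grp.FilteredColimits
import Mathlib.Algebra.Category.Grp.Limits
import Mathlib.Data.ZMod.Basic

/-! # A continuous map inducing an equivalence on sheaves is bijective on opens, and conversely -/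

set_option autoImplicit false
set_option linter.style.haveILetI false
set_option backward.isDefEq.respectTransparency false

universe u v w

open CategoryTheory Limits TopologicalSpace Opposite TopCat

noncomputable section

namespace GrothLib.TopEquiv5

variable {X₀ X : TopCat.{u}} (f : X₀ ⟶ X)

section OfBijective

variable (hf : Function.Bijective fun U : Opens X => (Opens.map f).obj U)

include hf in
theorem le_of_preimage_le {U V : Opens X} (h : (Opens.map f).obj U ≤ (Opens.map f).obj V) : U ≤ V := by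
  have h1 : (Opens.map f).obj (U ⊓ V) = (Opens.map f).obj U := le_antisymm (fun _ hx => hx.1) fun _ hx => ⟨hx, h hx⟩
  exact (hf.1 h1).ge.trans inf_le_right

include hf in
theorem isEquivalence_map : (Opens.map f).IsEquivalence where
  full := ⟨fun {U V} g => ⟨homOfLE (le_of_preimage_le f hf (leOfHom g)), Subsingleton.elim _ _⟩⟩
  essSurj := ⟨fun W => by
    obtain ⟨U, hU⟩ := hf.2 W
    exact ⟨U, ⟨eqToIso hU⟩⟩⟩
  faithful := ⟨fun _ => Subsingleton.elim _ _⟩

include hf in
theorem isDenseSubsite :
    (Opens.map f).IsDenseSubsite (Opens.grothendieckTopology X) (Opens.grothendieckTopology X₀) := by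
  haveI := isEquivalence_map f hf
  refine { functorPushforward_mem_iff := ?_ }
  intro V S
  simp only [Opens.mem_grothendieckTopology]
  constructor
  · intro H x hx
    let T : Opens X := sSup {W | ∃ g : W ⟶ V, S.arrows g}
    have hT : (Opens.map f).obj V ≤ (Opens.map f).obj T := by
      intro y hy
      obtain ⟨W', g', ⟨W, g, h, hS, -⟩, hyW'⟩ := H y hy
      exact Opens.mem_sSup.2 ⟨W, ⟨g, hS⟩, leOfHom h hyW'⟩
    obtain ⟨W, ⟨g, hg⟩, hxW⟩ := Opens.mem_sSup.1 (le_of_preimage_le f hf hT hx)
    exact ⟨W, g, hg, hxW⟩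
  · intro H y hy
    obtain ⟨W, g, hg, hyW⟩ := H (f y) hy
    exact ⟨(Opens.map f).obj W, (Opens.map f).map g, ⟨W, g, 𝟙 _, hg, (Category.id_comp _).symm⟩, hyW⟩

include hf in
theorem isEquivalence_pushforward (C : Type w) [Category.{u} C] [HasLimits C] :
    (TopCat.Sheaf.pushforward C f).IsEquivalence := by
  haveI := isDenseSubsite f hf
  exact inferInstanceAs
    (((Opens.map f).sheafPushforwardContinuous C (Opens.grothendieckTopology X) (Opens.grothendieckTopology X₀))).IsEquivalence

end OfBijective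

section OfEquivalence

open Classical

variable {C : Type w} [Category.{u} C] [HasTerminal C]

theorem injective_preimage [(TopCat.Sheaf.pushforward C f).EssSurj] (M : C) (hM : ¬ Nonempty (IsTerminal M)) :
    Function.Injective fun U : Opens X => (Opens.map f).obj U := by
  have key : ∀ U V : Opens X, U ≤ V → (Opens.map f).obj U = (Opens.map f).obj V → V ≤ U := by
    intro U V hUV h x hxV
    by_contra hxU
    let G : X.Sheaf C := skyscraperSheaf x M
    let H := (TopCat.Sheaf.pushforward C f).objPreimage G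
    let e : ((TopCat.Sheaf.pushforward C f).obj H).1 ≅ G.1 :=
      (TopCat.Sheaf.forget C X).mapIso ((TopCat.Sheaf.pushforward C f).objObjPreimageIso G)
    haveI : IsIso ((Opens.map f).map (homOfLE hUV)) :=
      ⟨⟨eqToHom h.symm, Subsingleton.elim _ _, Subsingleton.elim _ _⟩⟩
    haveI : IsIso (((TopCat.Sheaf.pushforward C f).obj H).1.map (homOfLE hUV).op) := by
      change IsIso (H.1.map ((Opens.map f).map (homOfLE hUV)).op)
      infer_instance
    haveI : IsIso (G.1.map (homOfLE hUV).op) := by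
      rw [← NatIso.isIso_map_iff e]
      infer_instance
    apply hM
    refine ⟨IsTerminal.ofIso terminalIsTerminal (?_ ≪≫ (asIso (G.1.map (homOfLE hUV).op)).symm ≪≫ ?_)⟩
    · exact eqToIso (if_neg hxU).symm
    · exact eqToIso (if_pos hxV)
  intro U V h
  have h1 : (Opens.map f).obj (U ⊓ V) = (Opens.map f).obj U := le_antisymm (fun _ hx => hx.1) fun y hy =>
    ⟨hy, (show (Opens.map f).obj U = (Opens.map f).obj V from h).le hy⟩
  exact le_antisymm ((key _ _ inf_le_left h1).trans inf_le_right)
    ((key _ _ inf_le_right (h1.trans h)).trans inf_le_left)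

variable [HasColimits C] {FC : C → C → Type u} {CC : C → Type u} [∀ A B, FunLike (FC A B) (CC A) (CC B)]
  [ConcreteCategory.{u} C FC] [PreservesFilteredColimits (CategoryTheory.forget C)]

theorem exists_preimage_agree [(TopCat.Sheaf.pushforward C f).Full] (K : X₀.Sheaf C) (W : Opens X₀)
    (hK : ∀ a b : ToType (K.1.obj (op W)), a = b) (y : X₀) (hy : y ∈ W)
    (a b : ToType (K.1.obj (op ((Opens.map f).obj ⊤)))) :
    ∃ U : Opens X, f y ∈ U ∧ K.1.map ((Opens.map f).map (homOfLE (le_top : U ≤ ⊤))).op a =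
      K.1.map ((Opens.map f).map (homOfLE (le_top : U ≤ ⊤))).op b := by
  let L := ((TopCat.Sheaf.pushforward C f).obj K)
  let L₁ : X.Presheaf C := L.1
  let M : C := L₁.stalk (f y)
  let S : X₀.Sheaf C := skyscraperSheaf y M
  let G : X.Sheaf C := skyscraperSheaf (f y) M
  have hGS : ∀ U : Opens X, G.1.obj (op U) = S.1.obj (op ((Opens.map f).obj U)) := fun U => by
    show (if f y ∈ U then M else terminal C) = if y ∈ (Opens.map f).obj U then M else terminal C
    rfl
  let ι : G ⟶ (TopCat.Sheaf.pushforward C f).obj S := ⟨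
    { app := fun U => eqToHom (hGS U.unop)
      naturality := fun U V i => by
        show (skyscraperPresheaf (f y) M).map i ≫ eqToHom _ =
          eqToHom _ ≫ (skyscraperPresheaf y M).map ((Opens.map f).op.map i)
        by_cases hV : f y ∈ V.unop
        · rw [skyscraperPresheaf_map, skyscraperPresheaf_map, dif_pos hV,
            dif_pos (show y ∈ ((Opens.map f).op.obj V).unop from hV)]
          simp
        · exact ((if_neg (show ¬ y ∈ ((Opens.map f).op.obj V).unop from hV)).symm.ndrec terminalIsTerminal).hom_ext _ _ }⟩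
  let ψ : L ⟶ G := ⟨StalkSkyscraperPresheafAdjunctionAuxs.toSkyscraperPresheaf (f y) (𝟙 M)⟩
  obtain ⟨φ, hφ⟩ := (TopCat.Sheaf.pushforward C f).map_surjective (ψ ≫ ι)
  have hψ : ψ.hom.app (op ⊤) = L₁.germ ⊤ (f y) trivial ≫ 𝟙 M ≫
      eqToHom (if_pos (show f y ∈ (op (⊤ : Opens X)).unop from trivial)).symm :=
    dif_pos (show f y ∈ (op (⊤ : Opens X)).unop from trivial)
  have hcomp : L₁.germ ⊤ (f y) trivial ≫ 𝟙 M ≫
      eqToHom (if_pos (show f y ∈ (op (⊤ : Opens X)).unop from trivial)).symm ≫ eqToHom (hGS ⊤) =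
      φ.hom.app (op ((Opens.map f).obj ⊤)) := by
    have h1 := congrArg (fun (t : L ⟶ (TopCat.Sheaf.pushforward C f).obj S) => t.hom.app (op (⊤ : Opens X))) hφ
    refine Eq.trans ?_ h1.symm
    show _ = ψ.hom.app (op ⊤) ≫ eqToHom (hGS ⊤)
    rw [hψ, Category.assoc, Category.assoc]
  let i : W ⟶ (Opens.map f).obj ⊤ := homOfLE fun _ _ => trivial
  haveI : IsIso (S.1.map i.op) := by
    show IsIso ((skyscraperPresheaf y M).map i.op)
    rw [skyscraperPresheaf_map, dif_pos hy]
    infer_instance
  have hφab : φ.hom.app (op ((Opens.map f).obj ⊤)) a = φ.hom.app (op ((Opens.map f).obj ⊤)) b := by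
    apply ((forget C).mapIso (asIso (S.1.map i.op))).toEquiv.injective
    show S.1.map i.op (φ.hom.app _ a) = S.1.map i.op (φ.hom.app _ b)
    rw [← ConcreteCategory.comp_apply, ← ConcreteCategory.comp_apply, ← φ.hom.naturality,
      ConcreteCategory.comp_apply, ConcreteCategory.comp_apply]
    exact congrArg _ (hK _ _)
  rw [← hcomp, Category.id_comp, eqToHom_trans] at hφab
  have hgerm : L₁.germ ⊤ (f y) trivial a = L₁.germ ⊤ (f y) trivial b := by
    rw [ConcreteCategory.comp_apply, ConcreteCategory.comp_apply] at hφab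
    exact (ConcreteCategory.bijective_of_isIso (eqToHom _)).1 hφab
  obtain ⟨U, hU, iU, iV, h⟩ := L₁.germ_eq (f y) (Opens.mem_top _) (Opens.mem_top _) a b hgerm
  refine ⟨U, hU, ?_⟩
  rw [show iU = homOfLE le_top from Subsingleton.elim _ _, show iV = homOfLE le_top from Subsingleton.elim _ _] at h
  exact h

theorem surjective_preimage [(TopCat.Sheaf.pushforward C f).Full]
    (hK : ∀ W : Opens X₀, ∃ (K : X₀.Sheaf C) (_ : ∀ a b : ToType (K.1.obj (op W)), a = b)
      (a b : ToType (K.1.obj (op ((Opens.map f).obj ⊤)))),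
      ∀ (V : Opens X₀) (hV : V ≤ (Opens.map f).obj ⊤), K.1.map (homOfLE hV).op a = K.1.map (homOfLE hV).op b → V ≤ W) :
    Function.Surjective fun U : Opens X => (Opens.map f).obj U := by
  intro W
  obtain ⟨K, hK0, a, b, hab⟩ := hK W
  refine ⟨sSup {U : Opens X | (Opens.map f).obj U ≤ W}, le_antisymm ?_ ?_⟩
  · intro y hy
    obtain ⟨U, hU, hyU⟩ := Opens.mem_sSup.1 (show f y ∈ sSup {U : Opens X | (Opens.map f).obj U ≤ W} from hy)
    exact hU hyU
  · intro y hy
    obtain ⟨U, hyU, h⟩ := exists_preimage_agree f K W hK0 y hy a b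
    exact Opens.mem_sSup.2 ⟨U, hab _ (leOfHom ((Opens.map f).map (homOfLE (le_top : U ≤ ⊤)))) h, hyU⟩

end OfEquivalence

section Test

open Classical

theorem test_type (W : Opens X₀) :
    ∃ (K : X₀.Sheaf (Type u)) (_ : ∀ a b : ToType (K.1.obj (op W)), a = b)
      (a b : ToType (K.1.obj (op ((Opens.map f).obj ⊤)))),
      ∀ (V : Opens X₀) (hV : V ≤ (Opens.map f).obj ⊤), K.1.map (homOfLE hV).op a = K.1.map (homOfLE hV).op b → V ≤ W := by
  let T : X₀ → Type u := fun x => {c : ULift.{u} Bool // x ∈ W → c = ULift.up false}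
  refine ⟨⟨presheafToTypes X₀ T, Presheaf.toTypes_isSheaf _ _⟩, ?_, fun _ => ⟨ULift.up false, fun _ => rfl⟩,
    fun x => if h : (x : X₀) ∈ W then ⟨ULift.up false, fun _ => rfl⟩ else ⟨ULift.up true, fun h' => absurd h' h⟩, ?_⟩
  · intro a b
    funext x
    exact Subtype.ext (((a x).2 x.2).trans ((b x).2 x.2).symm)
  · intro V hV h x hx
    by_contra hxW
    have h1 := congrArg Subtype.val (congrFun h ⟨x, hx⟩)
    change (ULift.up false : ULift.{u} Bool) = (dite _ _ _ : T _).1 at h1
    split_ifs at h1 with h2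
    · exact hxW h2
    · exact Bool.false_ne_true (congrArg ULift.down h1)

/-- The subgroup of `ZMod 2` prescribed at a point. -/
def fibre (W : Opens X₀) (x : X₀) : AddSubgroup (ULift.{u} (ZMod 2)) :=
  if x ∈ W then ⊥ else ⊤

/-- Functions supported outside `W`. -/
def funPresheaf (W : Opens X₀) : X₀.Presheaf AddCommGrpCat.{u} where
  obj U := AddCommGrpCat.of (∀ x : U.unop, fibre W x.1)
  map {U V} i := AddCommGrpCat.ofHom
    { toFun := fun s x => s ⟨x.1, leOfHom i.unop x.2⟩
      map_zero' := rfl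
      map_add' := fun _ _ => rfl }

theorem test_ab (W : Opens X₀) :
    ∃ (K : X₀.Sheaf AddCommGrpCat.{u}) (_ : ∀ a b : ToType (K.1.obj (op W)), a = b)
      (a b : ToType (K.1.obj (op ((Opens.map f).obj ⊤)))),
      ∀ (V : Opens X₀) (hV : V ≤ (Opens.map f).obj ⊤), K.1.map (homOfLE hV).op a = K.1.map (homOfLE hV).op b → V ≤ W := by
  have hsheaf : (funPresheaf W).IsSheaf := by
    rw [TopCat.Presheaf.isSheaf_iff_isSheaf_comp (CategoryTheory.forget AddCommGrpCat.{u})]
    exact (Presheaf.isSheaf_iso_iff (NatIso.ofComponents (fun U => Iso.refl _) (fun _ => rfl) :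
      funPresheaf W ⋙ CategoryTheory.forget AddCommGrpCat.{u} ≅ presheafToTypes X₀ fun x => fibre W x)).2
      (Presheaf.toTypes_isSheaf _ _)
  refine ⟨⟨funPresheaf W, hsheaf⟩, ?_, (0 : ∀ x : (Opens.map f).obj ⊤, fibre W x.1), ?_⟩
  · intro a b
    funext x
    apply Subtype.ext
    have h : ∀ c : fibre W x.1, (c : ULift.{u} (ZMod 2)) = 0 := fun c => by
      have := c.2
      simp only [fibre, if_pos (show (x : X₀) ∈ W from x.2), AddSubgroup.mem_bot] at this
      exact this
    exact (h _).trans (h _).symm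
  refine ⟨fun x => if h : (x : X₀) ∈ W then 0 else ⟨ULift.up 1, by simp [fibre, h]⟩, fun V hV h x hx => ?_⟩
  by_contra hxW
  have h1 := congrArg Subtype.val (congrFun h ⟨x, hx⟩)
  change (0 : ULift.{u} (ZMod 2)) = (dite _ _ _ : fibre W x).1 at h1
  split_ifs at h1 with h2
  · exact hxW h2
  · exact zero_ne_one (congrArg ULift.down h1)

end Test

end GrothLib.TopEquiv5

end
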